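import Groth.Agent.H48.MilGlue
import Groth.Agent.Lib.Ferrand.BaseChangeRing
import Mathlib.RingTheory.Smooth.Fiber
import Mathlib.RingTheory.Etale.Descent

/-!
# Properties of algebras over a fibre product of rings
-/

set_option autoImplicit false
set_option linter.style.haveILetI false
set_option linter.unusedSectionVars false

universe u

open TensorProduct

namespace Groth.Agent.Lib.MilnorAlg.Descent

open Groth.Agent.H48

variable {B' B A' A : Type u} [CommRing B'] [CommRing B] [CommRing A'] [CommRing A]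
  [Algebra B' B] [Algebra B' A'] [Algebra B A] [Algebra A' A] [Algebra B' A]
  [IsScalarTower B' B A] [IsScalarTower B' A' A] (hsq : EtMil.IsFibreSquare B' B A' A)
  {L : Type u} [CommRing L] [Algebra B' L]

/-- An element-free criterion: a submodule is everything if it is so after both base changes. -/
theorem eq_top_of_baseChange (hsq : EtMil.IsFibreSquare B' B A' A) {M N : Type u} [AddCommGroup M]
    [Module B' M] [AddCommGroup N] [Module B' N] (f : M →ₗ[B'] N)
    (hB : Function.Surjective (f.lTensor B)) (hA : Function.Surjective (f.lTensor A')) :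
    Function.Surjective f := by
  have key : ∀ (S : Type u) [CommRing S] [Algebra B' S], Function.Surjective (f.lTensor S) →
      Subsingleton (S ⊗[B'] (N ⧸ LinearMap.range f)) := by
    intro S _ _ hS
    refine subsingleton_of_forall_eq 0 fun z => ?_
    obtain ⟨z, rfl⟩ := LinearMap.lTensor_surjective S (Submodule.mkQ_surjective (LinearMap.range f)) z
    obtain ⟨w, rfl⟩ := hS z
    exact (lTensor_exact S (LinearMap.exact_map_mkQ_range f) (Submodule.mkQ_surjective _)).apply_apply_eq_zero w
  haveI := key B hB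
  haveI := key A' hA
  have := Mil.subsingleton_of_baseChange hsq (N ⧸ LinearMap.range f)
  exact LinearMap.range_eq_top.1 (Submodule.Quotient.subsingleton_iff.1 this)

/-- Finitely many elements of `L` generate a base change. -/
theorem exists_generators (S : Type u) [CommRing S] [Algebra B' S] [Algebra.FiniteType S (S ⊗[B'] L)] :
    ∃ T : Finset L, Algebra.adjoin S ((fun l => (1 : S) ⊗ₜ[B'] l) '' (T : Set L)) = ⊤ := by
  classical
  obtain ⟨U, hU⟩ := Algebra.FiniteType.out (R := S) (A := S ⊗[B'] L)
  choose T hT using fun x : S ⊗[B'] L => TensorProduct.exists_finset (R := B') x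
  refine ⟨(U.biUnion fun x => (T x).image Prod.snd), top_le_iff.1 (hU ▸ Algebra.adjoin_le ?_)⟩
  intro x hx
  rw [SetLike.mem_coe, hT x]
  refine Subalgebra.sum_mem _ fun p hp => ?_
  rw [show p.1 ⊗ₜ[B'] p.2 = p.1 • ((1 : S) ⊗ₜ[B'] p.2) by
    rw [TensorProduct.smul_tmul', smul_eq_mul, mul_one]]
  refine Subalgebra.smul_mem _ ?_ _
  refine Algebra.subset_adjoin (Set.mem_image_of_mem (fun l => (1 : S) ⊗ₜ[B'] l) ?_)
  exact Finset.mem_coe.2 (Finset.mem_biUnion.2 ⟨x, hx, Finset.mem_image_of_mem _ hp⟩)

theorem lTensor_apply_eq {P : Type u} [CommRing P] [Algebra B' P] (f : P →ₐ[B'] L) (S : Type u)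
    [CommRing S] [Algebra B' S] (x : S ⊗[B'] P) :
    f.toLinearMap.lTensor S x = Algebra.TensorProduct.map (AlgHom.id S S) f x := by
  induction x using TensorProduct.induction_on with
  | zero => simp
  | tmul a b => simp
  | add a b ha hb => rw [map_add, map_add, ha, hb]

/-- A finite set of `L` generating both base changes generates `L`. -/
theorem surjective_aeval (hsq : EtMil.IsFibreSquare B' B A' A) (T : Finset L)
    (hB : Algebra.adjoin B ((fun l => (1 : B) ⊗ₜ[B'] l) '' (T : Set L)) = ⊤)
    (hA : Algebra.adjoin A' ((fun l => (1 : A') ⊗ₜ[B'] l) '' (T : Set L)) = ⊤) :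
    Function.Surjective (MvPolynomial.aeval (fun t : T => (t : L)) : MvPolynomial T B' →ₐ[B'] L) := by
  refine eq_top_of_baseChange hsq (MvPolynomial.aeval (fun t : T => (t : L))).toLinearMap ?_ ?_
  all_goals
    rw [← LinearMap.range_eq_top]
    refine top_le_iff.1 fun x _ => ?_
  · have hx : x ∈ (Algebra.TensorProduct.map (AlgHom.id B B)
        (MvPolynomial.aeval (fun t : T => (t : L)) : MvPolynomial T B' →ₐ[B'] L)).range := by
      refine (hB.ge.trans (Algebra.adjoin_le ?_)) (Algebra.mem_top : x ∈ (⊤ : Subalgebra B _))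
      rintro _ ⟨t, ht, rfl⟩
      exact ⟨(1 : B) ⊗ₜ MvPolynomial.X ⟨t, ht⟩, by simp⟩
    obtain ⟨w, rfl⟩ := hx
    exact ⟨w, lTensor_apply_eq _ _ w⟩
  · have hx : x ∈ (Algebra.TensorProduct.map (AlgHom.id A' A')
        (MvPolynomial.aeval (fun t : T => (t : L)) : MvPolynomial T B' →ₐ[B'] L)).range := by
      refine (hA.ge.trans (Algebra.adjoin_le ?_)) (Algebra.mem_top : x ∈ (⊤ : Subalgebra A' _))
      rintro _ ⟨t, ht, rfl⟩
      exact ⟨(1 : A') ⊗ₜ MvPolynomial.X ⟨t, ht⟩, by simp⟩
    obtain ⟨w, rfl⟩ := hx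
    exact ⟨w, lTensor_apply_eq _ _ w⟩

theorem finiteType (hsq : EtMil.IsFibreSquare B' B A' A) [Algebra.FiniteType B (B ⊗[B'] L)]
    [Algebra.FiniteType A' (A' ⊗[B'] L)] : Algebra.FiniteType B' L := by
  classical
  obtain ⟨T₁, h₁⟩ := exists_generators (B' := B') (L := L) B
  obtain ⟨T₂, h₂⟩ := exists_generators (B' := B') (L := L) A'
  have key : Function.Surjective
      (MvPolynomial.aeval (fun t : (T₁ ∪ T₂ : Finset L) => (t : L)) : MvPolynomial _ B' →ₐ[B'] L) :=
    surjective_aeval hsq _ (top_le_iff.1 (h₁.ge.trans (Algebra.adjoin_mono (Set.image_mono (by simp)))))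
      (top_le_iff.1 (h₂.ge.trans (Algebra.adjoin_mono (Set.image_mono (by simp)))))
  exact Algebra.FiniteType.of_surjective _ key

/-- Finitely many elements of the kernel of a surjection generate the kernel after base change. -/
theorem exists_kernel_generators {P : Type u} [CommRing P] [Algebra B' P]
    [Algebra.FinitePresentation B' P] (f : P →ₐ[B'] L) (hf : Function.Surjective f) (S : Type u) [CommRing S]
    [Algebra B' S] [Algebra.FinitePresentation S (S ⊗[B'] L)] :
    ∃ G : Finset P, (∀ g ∈ G, f g = 0) ∧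
      RingHom.ker (Algebra.TensorProduct.map (AlgHom.id S S) f).toRingHom =
        Ideal.span ((fun g => (1 : S) ⊗ₜ[B'] g) '' (G : Set P)) := by
  classical
  have hsurj : Function.Surjective (Algebra.TensorProduct.map (AlgHom.id S S) f) := fun z => by
    obtain ⟨w, hw⟩ := f.toLinearMap.lTensor_surjective S hf z
    exact ⟨w, (lTensor_apply_eq f S w).symm.trans hw⟩
  obtain ⟨U, hU⟩ : (RingHom.ker (Algebra.TensorProduct.map (AlgHom.id S S) f).toRingHom).FG :=
    Algebra.FinitePresentation.ker_fG_of_surjective _ hsurj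
  have hk : RingHom.ker (Algebra.TensorProduct.map (AlgHom.id S S) f).toRingHom =
      Ideal.span ((fun g => (1 : S) ⊗ₜ[B'] g) '' (RingHom.ker f.toRingHom : Set P)) := by
    have h := Algebra.TensorProduct.lTensor_ker (R := B') (A := S) f hf
    refine Eq.trans (Ideal.ext fun x => ?_) (h.trans rfl)
    have hx : Algebra.TensorProduct.map (AlgHom.id S S) f x =
        Algebra.TensorProduct.map (AlgHom.id B' S) f x := by
      induction x using TensorProduct.induction_on with
      | zero => simp
      | tmul a b => simp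
      | add a b ha hb => rw [map_add, map_add, ha, hb]
    simp only [RingHom.mem_ker, AlgHom.toRingHom_eq_coe, RingHom.coe_coe, hx]
  have hx : ∀ x ∈ U, ∃ G : Finset P, (∀ g ∈ G, f g = 0) ∧
      x ∈ Ideal.span ((fun g => (1 : S) ⊗ₜ[B'] g) '' (G : Set P)) := by
    intro x hx
    have : x ∈ Ideal.span ((fun g => (1 : S) ⊗ₜ[B'] g) '' (RingHom.ker f.toRingHom : Set P)) :=
      hk ▸ hU ▸ Ideal.subset_span hx
    obtain ⟨V, hV, hxV⟩ := Submodule.mem_span_finite_of_mem_span this
    obtain ⟨G, hG, rfl⟩ := Finset.subset_set_image_iff.1 hV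
    exact ⟨G, fun g hg => hG hg, by rwa [Finset.coe_image] at hxV⟩
  choose G hG hxG using hx
  refine ⟨U.attach.biUnion fun x => G x.1 x.2, fun g hg => ?_, le_antisymm ?_ ?_⟩
  · obtain ⟨x, -, hgx⟩ := Finset.mem_biUnion.1 hg
    exact hG _ _ g hgx
  · rw [← hU, Ideal.span_le]
    intro x hx
    refine Ideal.span_mono (Set.image_mono ?_) (hxG x hx)
    exact Finset.coe_subset.2 fun g hg => Finset.mem_biUnion.2 ⟨⟨x, hx⟩, Finset.mem_attach _ _, hg⟩
  · rw [Ideal.span_le]
    rintro _ ⟨g, hg, rfl⟩
    obtain ⟨x, -, hgx⟩ := Finset.mem_biUnion.1 hg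
    show Algebra.TensorProduct.map (AlgHom.id S S) f ((1 : S) ⊗ₜ g) = 0
    rw [Algebra.TensorProduct.map_tmul, hG _ _ g hgx, TensorProduct.tmul_zero]

theorem finitePresentation (hsq : EtMil.IsFibreSquare B' B A' A) [Module.Flat B (B ⊗[B'] L)]
    [Module.Flat A' (A' ⊗[B'] L)] [Algebra.FinitePresentation B (B ⊗[B'] L)]
    [Algebra.FinitePresentation A' (A' ⊗[B'] L)] : Algebra.FinitePresentation B' L := by
  classical
  haveI := Mil.flat_of_baseChange hsq L
  haveI := finiteType (L := L) hsq
  obtain ⟨n, f, hf⟩ := Algebra.FiniteType.iff_quotient_mvPolynomial''.1 ‹Algebra.FiniteType B' L›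
  obtain ⟨G₁, h₁, k₁⟩ := exists_kernel_generators f hf B
  obtain ⟨G₂, h₂, k₂⟩ := exists_kernel_generators f hf A'
  let P := MvPolynomial (Fin n) B'
  let J : Ideal P := Ideal.span (↑(G₁ ∪ G₂) : Set P)
  have hJ : J ≤ RingHom.ker f.toRingHom := Ideal.span_le.2 fun g hg =>
    (Finset.mem_union.1 (Finset.mem_coe.1 hg)).elim (h₁ g) (h₂ g)
  let ι : (J.restrictScalars B') →ₗ[B'] LinearMap.ker f.toLinearMap :=
    Submodule.inclusion fun x hx => hJ hx
  have key : ∀ (S : Type u) [CommRing S] [Algebra B' S] (G : Finset P), G ⊆ G₁ ∪ G₂ →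
      RingHom.ker (Algebra.TensorProduct.map (AlgHom.id S S) f).toRingHom =
        Ideal.span ((fun g => (1 : S) ⊗ₜ[B'] g) '' (G : Set P)) →
      Function.Surjective (ι.lTensor S) := by
    intro S _ _ G hG hker z
    have hinj : Function.Injective ((LinearMap.ker f.toLinearMap).subtype.lTensor S) :=
      LinearMap.lTensor_injective_of_exact_of_flat f.toLinearMap hf _
        (LinearMap.ker f.toLinearMap).subtype_injective (LinearMap.exact_subtype_ker_map _) S
    let R : Submodule B' (S ⊗[B'] P) :=
      LinearMap.range (((J.restrictScalars B').subtype).lTensor S)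
    have hR : ∀ a x : S ⊗[B'] P, x ∈ R → a * x ∈ R := by
      rintro a _ ⟨w, rfl⟩
      induction w using TensorProduct.induction_on with
      | zero => simp
      | tmul s j =>
        induction a using TensorProduct.induction_on with
        | zero => simp
        | tmul t p => exact ⟨(t * s) ⊗ₜ ⟨p * j, J.mul_mem_left p j.2⟩, by simp⟩
        | add a b ha hb => rw [add_mul]; exact R.add_mem ha hb
      | add v w hv hw => rw [map_add, mul_add]; exact R.add_mem hv hw
    have hmem : ∀ x ∈ RingHom.ker (Algebra.TensorProduct.map (AlgHom.id S S) f).toRingHom, x ∈ R := by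
      intro x hx
      rw [hker] at hx
      induction hx using Submodule.span_induction with
      | mem x hx =>
        obtain ⟨g, hg, rfl⟩ := hx
        exact ⟨(1 : S) ⊗ₜ ⟨g, Ideal.subset_span (hG hg)⟩, by simp⟩
      | zero => exact R.zero_mem
      | add x y _ _ hx hy => exact R.add_mem hx hy
      | smul a x _ hx => exact hR a x hx
    have hz : (LinearMap.ker f.toLinearMap).subtype.lTensor S z ∈
        RingHom.ker (Algebra.TensorProduct.map (AlgHom.id S S) f).toRingHom := by
      rw [RingHom.mem_ker]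
      induction z using TensorProduct.induction_on with
      | zero => simp
      | tmul s j =>
        show Algebra.TensorProduct.map (AlgHom.id S S) f (s ⊗ₜ (j : P)) = 0
        rw [Algebra.TensorProduct.map_tmul, show f (j : P) = 0 from j.2, TensorProduct.tmul_zero]
      | add a b ha hb => rw [map_add, map_add, ha, hb, add_zero]
    obtain ⟨w, hw⟩ := hmem _ hz
    refine ⟨w, hinj ?_⟩
    rw [← hw, ← LinearMap.lTensor_comp_apply]
    rfl
  have hs := eq_top_of_baseChange hsq ι (key B G₁ Finset.subset_union_left k₁)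
    (key A' G₂ Finset.subset_union_right k₂)
  refine Algebra.FinitePresentation.of_surjective hf ⟨G₁ ∪ G₂, le_antisymm hJ fun x hx => ?_⟩
  obtain ⟨⟨y, hy⟩, hyx⟩ := hs ⟨x, hx⟩
  have : y = x := congrArg Subtype.val hyx
  exact this ▸ hy

/-- Fibres of `L` are smooth when both base changes are smooth. -/
theorem smooth (hsq : EtMil.IsFibreSquare B' B A' A) [Algebra.Smooth B (B ⊗[B'] L)]
    [Algebra.Smooth A' (A' ⊗[B'] L)] : Algebra.Smooth B' L := by
  haveI := Mil.flat_of_baseChange hsq L
  haveI := finitePresentation (L := L) hsq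
  refine Algebra.Smooth.of_formallySmooth_fiber fun p hp => ?_
  have key : ∀ (S : Type u) [CommRing S] [Algebra B' S] [Algebra.Smooth S (S ⊗[B'] L)] (q : Ideal S)
      [q.IsPrime], q.comap (algebraMap B' S) = p → Algebra.FormallySmooth p.ResidueField (p.Fiber L) := by
    intro S _ _ _ q _ hq
    haveI : q.LiesOver p := ⟨hq.symm⟩
    let K := q.ResidueField
    letI : Algebra p.ResidueField K :=
      (Ideal.ResidueField.map p q (algebraMap B' S) hq.symm).toAlgebra
    haveI : IsScalarTower B' p.ResidueField K := .of_algebraMap_eq fun x => by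
      simp [RingHom.algebraMap_toAlgebra, K]
      exact IsScalarTower.algebraMap_apply B' S q.ResidueField x
    haveI : Algebra.Smooth K (K ⊗[p.ResidueField] p.Fiber L) :=
      Algebra.Smooth.of_equiv (A := K ⊗[S] (S ⊗[B'] L))
        ((Algebra.TensorProduct.cancelBaseChange B' S K K L).trans
          (Algebra.TensorProduct.cancelBaseChange B' p.ResidueField K K L).symm)
    haveI : Algebra.Smooth p.ResidueField (p.Fiber L) :=
      Algebra.Smooth.of_smooth_tensorProduct_of_faithfullyFlat K
    infer_instance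
  have hS : Groth.Agent.Lib.Ferrand.IsSq (algebraMap B' B) (algebraMap B' A') (algebraMap B A)
      (algebraMap A' A) :=
    { comm := fun x => by
        rw [← IsScalarTower.algebraMap_apply, ← IsScalarTower.algebraMap_apply]
      surj := hsq.1
      ext := fun x y => Mil.ext_square hsq
      lift := fun b a h => (hsq.2 b a h).exists }
  rcases hS.comap_surjective ⟨p, hp⟩ with ⟨q, hq⟩ | ⟨q, hq⟩
  · exact key B q.asIdeal (congrArg PrimeSpectrum.asIdeal hq)
  · exact key A' q.asIdeal (congrArg PrimeSpectrum.asIdeal hq)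

theorem formallyUnramified (hsq : EtMil.IsFibreSquare B' B A' A)
    [Algebra.FormallyUnramified B (B ⊗[B'] L)] [Algebra.FormallyUnramified A' (A' ⊗[B'] L)] :
    Algebra.FormallyUnramified B' L := by
  have key : ∀ (S : Type u) [CommRing S] [Algebra B' S] [Algebra.FormallyUnramified S (S ⊗[B'] L)],
      Subsingleton (S ⊗[B'] Ω[L⁄B']) := by
    intro S _ _ _
    letI : Algebra L (S ⊗[B'] L) := Algebra.TensorProduct.rightAlgebra
    exact (KaehlerDifferential.tensorKaehlerEquivBase B' S L (S ⊗[B'] L)).subsingleton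
  haveI := key B
  haveI := key A'
  exact ⟨Mil.subsingleton_of_baseChange hsq _⟩

theorem etale (hsq : EtMil.IsFibreSquare B' B A' A) [Algebra.Etale B (B ⊗[B'] L)]
    [Algebra.Etale A' (A' ⊗[B'] L)] : Algebra.Etale B' L :=
  Algebra.Etale.iff_formallyUnramified_and_smooth.2 ⟨formallyUnramified hsq, smooth hsq⟩

end Groth.Agent.Lib.MilnorAlg.Descent
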